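import Mathlib

/-!
Integer arithmetic for the exclusion of degree sixteen at the prime nineteen.
-/

set_option autoImplicit false

namespace H14.Deg16

/-- The admissible degree patterns of the principal block. -/
def Pattern (y si di dj bi bj : ℤ) : Prop :=
  (y = 22 ∧ si = -1 ∧ di = 18 ∧ dj = 39 ∧ bi = 0 ∧ bj = 2) ∨
  (y = 22 ∧ si = -1 ∧ di = 18 ∧ dj = 39 ∧ bi = 1 ∧ bj = 3) ∨
  (y = 22 ∧ si = -1 ∧ di = 18 ∧ dj = 39 ∧ bi = 2 ∧ bj = 4) ∨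
  (y = 22 ∧ si = -1 ∧ di = 56 ∧ dj = 77 ∧ bi = 0 ∧ bj = 2) ∨
  (y = 22 ∧ si = -1 ∧ di = 75 ∧ dj = 96 ∧ bi = 0 ∧ bj = 2) ∨
  (y = 60 ∧ si = 1 ∧ di = 20 ∧ dj = 39 ∧ bi = 0 ∧ bj = 2) ∨
  (y = 60 ∧ si = 1 ∧ di = 20 ∧ dj = 39 ∧ bi = 1 ∧ bj = 1) ∨
  (y = 60 ∧ si = 1 ∧ di = 39 ∧ dj = 20 ∧ bi = 0 ∧ bj = 2) ∨
  (y = 60 ∧ si = 1 ∧ di = 39 ∧ dj = 20 ∧ bi = 1 ∧ bj = 1) ∨
  (y = 98 ∧ si = 1 ∧ di = 77 ∧ dj = 20 ∧ bi = 0 ∧ bj = 2)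

set_option maxHeartbeats 4000000 in
/-- Only few patterns, and patterns with a prime above nineteen, satisfy the relations. -/
theorem pattern_cases {y si di dj bi bj R : ℤ} (hy : ∃ s : ℤ, y = 19 * s + 3) (hy3 : y ≠ 3)
    (hy0 : 0 < y) (hi2 : 2 ≤ di) (hj2 : 2 ≤ dj)
    (hi : (si = 1 ∧ di % 19 = 1) ∨ (si = -1 ∧ di % 19 = 18)) (hj : dj % 19 = 1)
    (hrel : y = 1 + si * di + dj) (hb : si * bi + bj = 2) (hbi : 0 ≤ bi) (hbj : 1 ≤ bj)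
    (hR : 0 ≤ R) (hsum : 256 = 1 + 2 * y + bi * di + bj * dj + R) :
    Pattern y si di dj bi bj ∨ y = 41 ∨ y = 79 ∨ di = 37 := by
  obtain ⟨s, rfl⟩ := hy
  have h1 : 0 ≤ bi * di := by positivity
  have h2 : 0 ≤ (bj - 1) * dj := mul_nonneg (by omega) (by omega)
  have h3 : 0 ≤ bj * dj := mul_nonneg (by omega) (by omega)
  have hdj : dj ≤ 255 := by nlinarith
  have hs : s ≤ 6 := by omega
  have hs1 : 1 ≤ s := by omega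
  obtain ⟨q, hq, rfl⟩ : ∃ q : ℤ, q ≤ 13 ∧ dj = 19 * q + 1 := ⟨dj / 19, by omega, by omega⟩
  have hq1 : 1 ≤ q := by omega
  have hbjb : bj ≤ 12 := by nlinarith
  rcases hi with ⟨rfl, hi'⟩ | ⟨rfl, hi'⟩
  · obtain rfl : di = 19 * s + 3 - 1 - (19 * q + 1) := by omega
    obtain rfl : bj = 2 - bi := by omega
    have hbib : bi ≤ 1 := by omega
    interval_cases s <;> interval_cases q <;> first
      | (exfalso; omega)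
      | (interval_cases bi <;> first
          | (exfalso; omega)
          | (norm_num [Pattern]))
  · obtain rfl : bj = bi + 2 := by omega
    obtain rfl : di = 19 * q + 2 - (19 * s + 3) := by omega
    interval_cases s <;> interval_cases q <;> first
      | (exfalso; omega)
      | (have hb5 : bi ≤ 12 := by omega
         interval_cases bi <;> first
          | (exfalso; omega)
          | (norm_num [Pattern]))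

/-- No pattern is compatible with the values at an element of order eleven. -/
theorem eleven_kill {y si di dj bi bj R Y xi xj w : ℤ}
    (hp : Pattern y si di dj bi bj) (h60 : y ≠ 60)
    (hsum : 256 = 1 + 2 * y + bi * di + bj * dj + R)
    (hrel : Y = 1 + si * xi + xj) (hval : 25 = 1 + 2 * Y + bi * xi + bj * xj + w)
    (hY : (∃ k : ℤ, y - Y = 11 * k) ∧ -y ≤ 10 * Y ∧ Y ≤ y)
    (hxi : (∃ k : ℤ, di - xi = 11 * k) ∧ -di ≤ 10 * xi ∧ xi ≤ di)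
    (hxj : (∃ k : ℤ, dj - xj = 11 * k) ∧ -dj ≤ 10 * xj ∧ xj ≤ dj)
    (hw : (∃ k : ℤ, R - w = 11 * k) ∧ -R ≤ 10 * w ∧ w ≤ R)
    (hT : 47 * (di * dj * y) ≤
      10 * (di * dj * y + xi * (dj * y) + xj * (di * y) + 16 * Y * (di * dj))) : False := by
  obtain ⟨⟨k1, h1⟩, h1', h1''⟩ := hY
  obtain ⟨⟨k2, h2⟩, h2', h2''⟩ := hxi
  obtain ⟨⟨k3, h3⟩, h3', h3''⟩ := hxj
  obtain ⟨⟨k4, h4⟩, h4', h4''⟩ := hw
  rcases hp with ⟨rfl, rfl, rfl, rfl, rfl, rfl⟩ | ⟨rfl, rfl, rfl, rfl, rfl, rfl⟩ |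
    ⟨rfl, rfl, rfl, rfl, rfl, rfl⟩ | ⟨rfl, rfl, rfl, rfl, rfl, rfl⟩ |
    ⟨rfl, rfl, rfl, rfl, rfl, rfl⟩ | ⟨rfl, rfl, rfl, rfl, rfl, rfl⟩ |
    ⟨rfl, rfl, rfl, rfl, rfl, rfl⟩ | ⟨rfl, rfl, rfl, rfl, rfl, rfl⟩ |
    ⟨rfl, rfl, rfl, rfl, rfl, rfl⟩ | ⟨rfl, rfl, rfl, rfl, rfl, rfl⟩ <;>
  omega

/-- The patterns of degree sixty are incompatible with the values at an element of order
thirteen. -/
theorem thirteen_kill {y si di dj bi bj R Y xi xj w : ℤ}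
    (hp : Pattern y si di dj bi bj) (h60 : y = 60)
    (hsum : 256 = 1 + 2 * y + bi * di + bj * dj + R)
    (hrel : Y = 1 + si * xi + xj) (hval : 9 = 1 + 2 * Y + bi * xi + bj * xj + w)
    (hY : (∃ k : ℤ, y - Y = 13 * k) ∧ -y ≤ 12 * Y ∧ Y ≤ y)
    (hxi : (∃ k : ℤ, di - xi = 13 * k) ∧ -di ≤ 12 * xi ∧ xi ≤ di)
    (hxj : (∃ k : ℤ, dj - xj = 13 * k) ∧ -dj ≤ 12 * xj ∧ xj ≤ dj)
    (hw : (∃ k : ℤ, R - w = 13 * k) ∧ -R ≤ 12 * w ∧ w ≤ R)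
    (hT : 33 * (di * dj * y) ≤
      12 * (di * dj * y + xi * (dj * y) + xj * (di * y) + 16 * Y * (di * dj))) : False := by
  subst h60
  obtain ⟨⟨k1, h1⟩, h1', h1''⟩ := hY
  obtain ⟨⟨k2, h2⟩, h2', h2''⟩ := hxi
  obtain ⟨⟨k3, h3⟩, h3', h3''⟩ := hxj
  obtain ⟨⟨k4, h4⟩, h4', h4''⟩ := hw
  rcases hp with ⟨h, rfl, rfl, rfl, rfl, rfl⟩ | ⟨h, rfl, rfl, rfl, rfl, rfl⟩ |
    ⟨h, rfl, rfl, rfl, rfl, rfl⟩ | ⟨h, rfl, rfl, rfl, rfl, rfl⟩ |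
    ⟨h, rfl, rfl, rfl, rfl, rfl⟩ | ⟨h, rfl, rfl, rfl, rfl, rfl⟩ |
    ⟨h, rfl, rfl, rfl, rfl, rfl⟩ | ⟨h, rfl, rfl, rfl, rfl, rfl⟩ |
    ⟨h, rfl, rfl, rfl, rfl, rfl⟩ | ⟨h, rfl, rfl, rfl, rfl, rfl⟩ <;>
  omega

end H14.Deg16
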