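import Cfsg.Agent.H15.Degree.Many

/-!
The rows of the principal block for a chosen family, with the multiplicities they come from.
-/

set_option autoImplicit false
set_option linter.style.haveILetI false
set_option linter.unusedSectionVars false

open Cfsg
open scoped ComplexConjugate

namespace H14.Deg16

open H85.D1 H15.HalfDeg H15.Degree

universe u

variable {G : Type u} [Group G] [Fintype G] {p : ℕ} [hp : Fact p.Prime]
  {P : Sylow p G} {u a : G} {H : Subgroup G} [Fintype H] [Fintype (P : Subgroup G)]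
  {D : Setting P u a H} [Fintype (D.aut (H12.oneIrr H))] {f n t : ℕ}
  {χ : IrrCharacter G} {θ : IrrCharacter H} {ψ : (P : Subgroup G) →* ℂˣ}
  (h : Neg D f n χ θ ψ) (hft : f * t + 1 = p) (ht : 3 ≤ t)
  {M : Ideal AlgInt} [M.IsPrime] (hM : IsPModular p M)
  (Θ : Fam D f t ψ θ) (hΘδ : Θ.δ = -1) (hΘ1 : Θ.Y 1 = χ)

include h hft ht hM hΘδ hΘ1

/-- The rows of a family of the principal block, with their multiplicities. -/
theorem rows_of (Φ : Fam D f t ψ (H12.oneIrr H)) : ∀ A ∈ lab (p := p) t,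
    ∃ (k : ZMod p → ℕ) (z : ℤ),
      (∀ C, classInner (fun g => (χ : G → ℂ) g * conj ((Θ.Y A : G → ℂ) g)) (Φ.Y C : G → ℂ) =
        (k C : ℂ)) ∧
      (∀ C ∈ lab (p := p) t, Φ.δ * (k C : ℤ) = (cyc f A C : ℤ) + z) ∧
      ∑ C ∈ lab (p := p) t, k C < t := by
  classical
  haveI : Fintype ↥(Subgroup.normalizer ((P : Subgroup G) : Set G)) := Fintype.ofFinite _
  obtain ⟨μ, hμC, hμY⟩ := Fam.exists_common h hft Φ (two_f_lt h hft ht) 1
    (fun x k => by rw [MonoidHom.one_apply, Units.val_one]; rfl)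
  obtain ⟨l, hl, -⟩ := h.exists_lam hft hM
  obtain ⟨hn, h3, hf2⟩ := mul_t_bounds h hft ht
  intro A hA
  set F : G → ℂ := fun g => (χ : G → ℂ) g * conj ((Θ.Y A : G → ℂ) g) with hFdef
  have hsupp : Θ.Y A ∈ D.supp θ := (Θ.mem_supp _).2 (Or.inr ⟨A, hA, rfl⟩)
  have hFch : IsCharacter G F :=
    H12.IsCharacter.mul (H12.isCharacter_irr χ) (H12.IsCharacter.star (H12.isCharacter_irr _))
  have hFk : ∀ (g : G) (k : H), F (g * k) = F g := fun g k => by
    simp only [hFdef]
    rw [central_mul D h.central_le hM h.mem_supp, central_mul D h.central_le hM hsupp, map_mul]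
    linear_combination (χ : G → ℂ) g * conj ((Θ.Y A : G → ℂ) g) * theta_mul_conj h hft k
  have hFx : ∀ x : (P : Subgroup G), x ≠ 1 →
      F x = per ψ f (1 : ZMod p) x * conj (per ψ f A x) := fun x hx => by
    simp only [hFdef]
    rw [h.val_per hft x hx, Fam.valY' h hft Θ hA x hx, hΘδ, map_mul, map_intCast]
    push_cast
    ring
  obtain ⟨k, z, hk, hkz⟩ := Fam.exists_mult h hft Φ hFch (if A = 1 then (f : ℂ) else 0)
    (fun C => (cyc f A C : ℤ)) fun x hx k => by
      rw [hFk, hFx x hx, per_one_mul_conj D.hP h.psi_ne hft A hA]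
      simp [H12.oneIrr_apply]
  refine ⟨k, z, hk, hkz, ?_⟩
  have hYdeg : H12.degree (Θ.Y A : G → ℂ) = n := by
    rw [Fam.degree_Y_eq h hft Θ hA, hΘ1, h.degree_eq]
  -- the weight
  have hout : ∀ g ∈ Finset.univ.filter (fun g : ↥(Subgroup.normalizer ((P : Subgroup G) : Set G)) =>
      (g : G) ∉ Subgroup.centralizer ((P : Subgroup G) : Set G)), F g * conj (μ g : ℂ) =
        ((1 : ↥(Subgroup.normalizer ((P : Subgroup G) : Set G)) →* ℂˣ) g : ℂ) * conj (μ g : ℂ) := by
    intro g hg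
    have hgC := (Finset.mem_filter.1 hg).2
    simp only [hFdef]
    rw [Θ.regY A hA g (regular_of_notMem D g hgC), hΘ1, hl g hgC, MonoidHom.one_apply,
      Units.val_one, Complex.mul_conj, Complex.normSq_eq_norm_sq,
      Complex.norm_eq_one_of_pow_eq_one (by rw [← Units.val_pow_eq_pow_val, ← map_pow,
        pow_card_eq_one', map_one, Units.val_one])
      (Nat.card_pos (α := ↥(Subgroup.normalizer ((P : Subgroup G) : Set G)))).ne',
      one_pow, Complex.ofReal_one]
  have hw := wt_formula D h.card_aut F μ fun x k => by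
    rw [hFk, hμC _ (mem_CP_mul D x k), MonoidHom.one_apply, Units.val_one, map_one, mul_one]
  rw [Finset.sum_congr rfl hout, sum_outside D h.card_aut 1 μ fun g hg => (hμC g hg).symm,
    ← Finset.add_sum_erase _ _ (Finset.mem_univ (1 : (P : Subgroup G))),
    Finset.sum_congr rfl fun x hx => hFx x (Finset.ne_of_mem_erase hx),
    sum_erase_per_mul_conj D.hP h.psi_ne hft 1 A (one_mem_lab hft) hA] at hw
  have hF1 : F ((1 : (P : Subgroup G)) : G) = (n : ℂ) * n := by
    simp only [hFdef, OneMemClass.coe_one, H12.irr_apply_one, h.degree_eq, hYdeg, map_natCast]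
  rw [hF1] at hw
  obtain ⟨W, hW⟩ := wt_nat (P := P) hFch μ
  rw [hW] at hw
  have hnC : (n : ℂ) = (f : ℂ) * t + 1 - f := by
    rw [eq_sub_iff_add_eq]; exact_mod_cast hn
  have hpC : (p : ℂ) = (f : ℂ) * t + 1 := by exact_mod_cast hft.symm
  have hH0 : (Nat.card H : ℂ) ≠ 0 := Nat.cast_ne_zero.2 Nat.card_pos.ne'
  have hf0 : (f : ℂ) ≠ 0 := Nat.cast_ne_zero.2 (by omega)
  have hp0 : (p : ℂ) ≠ 0 := Nat.cast_ne_zero.2 hp.out.ne_zero
  have hWeq : W + 2 = t + (if (1 : ZMod p) = A then 1 else 0) +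
      (if (1 : ↥(Subgroup.normalizer ((P : Subgroup G) : Set G)) →* ℂˣ) = μ then 1 else 0) := by
    have e : ((W + 2 : ℕ) : ℂ) = ((t + (if (1 : ZMod p) = A then 1 else 0) +
        (if (1 : ↥(Subgroup.normalizer ((P : Subgroup G) : Set G)) →* ℂˣ) = μ then 1 else 0) : ℕ) : ℂ) := by
      push_cast at hw ⊢
      rw [hnC, hpC] at hw
      refine mul_left_cancel₀ (mul_ne_zero (mul_ne_zero hf0 (hpC ▸ hp0)) hH0) ?_
      split_ifs at hw ⊢ <;> linear_combination hw
    exact_mod_cast e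
  -- the constituents
  set T := (lab (p := p) t).image Φ.Y with hT
  choose k' hk' using fun i : IrrCharacter G =>
    H12.IsCharacter.classInner_nat hFch (H12.isCharacter_irr i)
  have hkk : ∀ B, k' (Φ.Y B) = k B := fun B => by
    have := (hk' (Φ.Y B)).symm.trans (hk B)
    exact_mod_cast this
  have hTY : ∀ i ∈ T, ∃ w : ℕ, 1 ≤ w ∧ wt (P := P) (i : G → ℂ) μ = (w : ℂ) := fun i hi => by
    obtain ⟨B, hB, rfl⟩ := Finset.mem_image.1 hi
    exact hμY B hB
  have hsum : ∑ i ∈ T, k' i = ∑ C ∈ lab (p := p) t, k C := by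
    rw [hT, Finset.sum_image (fun B hB C hC e => Φ.injY B hB C hC e)]
    exact Finset.sum_congr rfl fun B _ => hkk B
  by_cases hA1 : A = 1
  · subst hA1
    by_cases hμ1 : (1 : ↥(Subgroup.normalizer ((P : Subgroup G) : Set G)) →* ℂˣ) = μ
    · rw [if_pos rfl, if_pos hμ1] at hWeq
      have hone : H12.oneIrr G ∉ T := fun hm => by
        obtain ⟨B, hB, he⟩ := Finset.mem_image.1 hm
        exact Fam.one_ne_Y h hft ht Φ hB he
      have hk1 : k' (H12.oneIrr G) = 1 := by
        have h1 := hk' (H12.oneIrr G)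
        have h2 : classInner F (H12.oneIrr G : G → ℂ) = 1 := by
          rw [← H12.classInner_irr_self χ]
          simp only [H12.classInner_def, hFdef, hΘ1, H12.oneIrr_apply, map_one, mul_one]
        rw [h2] at h1
        exact_mod_cast h1.symm
      have hle := wt_le hFch μ (insert (H12.oneIrr G) T) k' (fun i _ => hk' i) (fun i hi => by
        rcases Finset.mem_insert.1 hi with rfl | hi
        · refine ⟨1, le_rfl, ?_⟩
          rw [← hμ1, wt, Nat.cast_one]
          exact H12.classInner_irr_self (H12.oneIrr _)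
        · exact hTY i hi) hW
      rw [Finset.sum_insert hone, hsum, hk1] at hle
      omega
    · rw [if_pos rfl, if_neg hμ1] at hWeq
      have hle := wt_le hFch μ T k' (fun i _ => hk' i) hTY hW
      rw [hsum] at hle
      omega
  · rw [if_neg (Ne.symm hA1)] at hWeq
    have hle := wt_le hFch μ T k' (fun i _ => hk' i) hTY hW
    rw [hsum] at hle
    split_ifs at hWeq <;> omega

/-- With an odd index the sign of the principal block is positive. -/
theorem principal_sign (hodd : Odd f) (hf : 3 ≤ f) (Φ₁ : Fam D f t ψ (H12.oneIrr H)) :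
    Φ₁.δ = 1 := by
  obtain ⟨φ, hφ⟩ := exists_sq_irr h hft
  obtain ⟨Φ⟩ := h.exists_fam hft hM φ
  obtain ⟨hwo, -⟩ := wedge_data h hft ht hM hφ Φ
  refine (odd_case hft ht hodd hf Φ₁.δ_eq Φ.δ_eq (fun A hA => ?_) (rows_sq h hft ht hM hφ Φ)
    (fun c hc => flat_sum h hft hc) (hwo hodd)).1
  obtain ⟨k, z, -, hk, hs⟩ := rows_of h hft ht hM Θ hΘδ hΘ1 Φ₁ A hA
  exact ⟨k, z, hk, hs⟩

end H14.Deg16
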