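import Cfsg.Agent.H25.Galois
import Cfsg.Agent.H24.CharBasic
import Cfsg.Agent.H12.Integral

/-!
Values of characters at elements of prime order: sums over the powers, integrality of values
that are constant on the generators, and exponents realising prescribed Galois actions.
-/

set_option autoImplicit false
set_option linter.unusedSectionVars false
set_option linter.style.haveILetI false

open Cfsg
open scoped ComplexConjugate

namespace H14.Deg16

universe u

variable {G : Type u} [Group G] [Fintype G]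

/-- The sum over the powers of an element of prime order. -/
theorem sum_powers {F : G → ℂ} (hF : IsCharacter G F) {g : G} {r : ℕ} (hg : orderOf g = r) :
    ∃ m : ℕ, ∑ k ∈ Finset.range r, F (g ^ k) = (r : ℂ) * m := by
  classical
  haveI := Fintype.ofFinite (Subgroup.zpowers g)
  obtain ⟨m, hm⟩ := H24.sum_subgroup_eq hF (Subgroup.zpowers g)
  refine ⟨m, ?_⟩
  subst hg
  rw [Nat.card_zpowers] at hm
  rw [← hm, Finset.sum_range]
  exact Fintype.sum_bijective (finEquivZPowers (isOfFinOrder_of_finite g))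
    (finEquivZPowers (isOfFinOrder_of_finite g)).bijective _ _ fun i => by
      rw [finEquivZPowers_apply]

/-- Over the nontrivial powers the real parts add up to at least `-F 1`. -/
theorem re_sum_ge {F : G → ℂ} (hF : IsCharacter G F) {g : G} {r : ℕ} (hg : orderOf g = r) :
    -(H12.degree F : ℝ) ≤ ∑ k ∈ Finset.range (r - 1), (F (g ^ (k + 1))).re := by
  obtain ⟨m, hm⟩ := sum_powers hF hg
  have hr : 0 < r := hg ▸ orderOf_pos g
  obtain ⟨r', rfl⟩ : ∃ r', r = r' + 1 := ⟨r - 1, by omega⟩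
  rw [Finset.sum_range_succ', pow_zero, H12.IsCharacter.apply_one_eq_degree hF] at hm
  have h1 := congrArg Complex.re hm
  simp only [Complex.add_re, Complex.re_sum, Complex.natCast_re, Complex.mul_re,
    Complex.natCast_im, mul_zero, sub_zero] at h1
  rw [Nat.add_sub_cancel, eq_sub_of_add_eq h1]
  have : (0 : ℝ) ≤ ((r' + 1 : ℕ) : ℝ) * m := by positivity
  linarith

/-- A value constant on the generators of a group of prime order is an integer congruent to the
degree, and it is not too negative. -/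
theorem exists_int {F : G → ℂ} (hF : IsCharacter G F) {g : G} {r : ℕ} (hr : r.Prime)
    (hg : orderOf g = r) (hinv : ∀ k : ℕ, k + 1 < r → F (g ^ (k + 1)) = F g) :
    ∃ z k : ℤ, F g = (z : ℂ) ∧ (H12.degree F : ℤ) - z = (r : ℤ) * k ∧
      -(H12.degree F : ℤ) ≤ ((r : ℤ) - 1) * z ∧ z ≤ (H12.degree F : ℤ) := by
  obtain ⟨m, hm⟩ := sum_powers hF hg
  have hr2 := hr.two_le
  obtain ⟨r', rfl⟩ : ∃ r', r = r' + 1 := ⟨r - 1, by omega⟩
  rw [Finset.sum_range_succ', pow_zero, H12.IsCharacter.apply_one_eq_degree hF,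
    Finset.sum_congr rfl fun k hk => hinv k (by have := Finset.mem_range.1 hk; omega),
    Finset.sum_const, Finset.card_range, nsmul_eq_mul] at hm
  have hr'0 : (r' : ℂ) ≠ 0 := Nat.cast_ne_zero.2 (by omega)
  have hv : F g = ((((r' + 1 : ℕ) : ℤ) * m - (H12.degree F : ℤ) : ℚ) / (r' : ℚ) : ℚ) := by
    push_cast at hm ⊢
    rw [eq_div_iff hr'0]
    linear_combination hm
  have hint : IsIntegral ℤ (F g) := H12.IsCharacter.isIntegral hF g
  obtain ⟨z, hz⟩ := H12.exists_int_of_isIntegral_rat (hv ▸ hint)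
  have hFz : F g = (z : ℂ) := by rw [hv, ← hz]; push_cast; ring
  have hzZ : (r' : ℤ) * z + (H12.degree F : ℤ) = ((r' + 1 : ℕ) : ℤ) * m := by
    rw [hFz] at hm
    apply Int.cast_injective (α := ℂ)
    push_cast at hm ⊢
    linear_combination hm
  have hle : z ≤ (H12.degree F : ℤ) := by
    have h1 := H12.IsCharacter.norm_le hF g
    rw [hFz, Complex.norm_intCast] at h1
    have h2 : (z : ℝ) ≤ (H12.degree F : ℝ) := (le_abs_self _).trans h1
    exact_mod_cast h2
  refine ⟨z, (m : ℤ) - z, hFz, ?_, ?_, hle⟩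
  · push_cast at hzZ ⊢
    linear_combination hzZ
  · have h0 : (0 : ℤ) ≤ ((r' + 1 : ℕ) : ℤ) * m := by positivity
    push_cast at hzZ h0 ⊢
    linarith

/-- An exponent prime to the group order with a prescribed residue at `r` that is trivial on a
divisor prime to `r`. -/
theorem exists_exponent {r c j : ℕ} (hr : r.Prime) (hj : ¬ r ∣ j) (hrc : ¬ r ∣ c)
    (hc : c ∣ Nat.card G) :
    ∃ k : ℕ, Nat.Coprime k (Nat.card G) ∧ k ≡ j [MOD r] ∧ k ≡ 1 [MOD c] := by
  set n := Nat.card G with hn
  have hn0 : n ≠ 0 := Nat.card_pos.ne'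
  set m := ordCompl[r] n with hm
  have hco : Nat.Coprime (r ^ (n.factorization r + 1)) m :=
    Nat.Coprime.pow_left _ (Nat.coprime_ordCompl hr hn0)
  obtain ⟨k, hk1, hk2⟩ := Nat.chineseRemainder hco j 1
  refine ⟨k, ?_, hk1.of_dvd (dvd_pow_self r (Nat.succ_ne_zero _)), hk2.of_dvd ?_⟩
  · have hkr : ¬ r ∣ k := fun hd => hj
      (((hk1.of_dvd (dvd_pow_self r (Nat.succ_ne_zero _))).dvd_iff dvd_rfl).1 hd)
    have hkm : Nat.Coprime k m := by
      have h := hk2.gcd_eq
      rw [Nat.gcd_one_left] at h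
      exact h
    rw [← Nat.ordProj_mul_ordCompl_eq_self n r]
    exact Nat.Coprime.mul_right ((hr.coprime_iff_not_dvd.2 hkr).symm.pow_right _) hkm
  · have hcc : Nat.Coprime c (r ^ n.factorization r) :=
      Nat.Coprime.pow_right _ ((hr.coprime_iff_not_dvd.2 hrc).symm)
    refine hcc.dvd_of_dvd_mul_left ?_
    rw [Nat.ordProj_mul_ordCompl_eq_self]
    exact hc

/-- A field automorphism with trivial action on `c`-th roots of unity realising a power map on
an element of order prime to `c`. -/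
theorem exists_galois_pow {r c j : ℕ} (hr : r.Prime) (hj : ¬ r ∣ j) (hrc : ¬ r ∣ c)
    (hc : c ∣ Nat.card G) :
    ∃ σ : ℂ ≃+* ℂ, (∀ z : ℂ, z ^ c = 1 → σ z = z) ∧
      ∀ F : G → ℂ, IsCharacter G F → ∀ g : G, orderOf g = r → σ (F g) = F (g ^ j) := by
  obtain ⟨k, hk, hkj, hk1⟩ := exists_exponent (G := G) hr hj hrc hc
  obtain ⟨σ, hσ⟩ := H25.exists_ringEquiv_pow_rootOfUnity (Nat.card G) k Nat.card_pos hk
  refine ⟨σ, fun z hz => ?_, fun F hF g hg => ?_⟩
  · obtain ⟨q, hq⟩ := hc
    rw [hσ z (by rw [hq, pow_mul, hz, one_pow])]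
    conv_rhs => rw [← pow_one z]
    rw [pow_eq_pow_mod k hz, pow_eq_pow_mod 1 hz, hk1]
  · rw [H25.map_character_apply hF σ k hσ g]
    congr 1
    rw [pow_eq_pow_iff_modEq, hg]
    exact hkj

end H14.Deg16
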