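import Cfsg.Agent.H15.Degree.Many
import Cfsg.Agent.H14.Deg16.Value
import Cfsg.Agent.H14.Deg16.Rows

/-!
Degree sixteen at the prime nineteen: Galois action on blocks, the order of the centre, and the
inequality between the class sums of two blocks.
-/

set_option autoImplicit false
set_option linter.style.haveILetI false
set_option linter.unusedSectionVars false

open Cfsg
open scoped ComplexConjugate

namespace H14.Deg16

open H85.D1 H15.HalfDeg H15.Degree

universe u

variable {G : Type u} [Group G] [Fintype G] {p : ℕ} [hp : Fact p.Prime]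
  {P : Sylow p G} {u a : G} {H : Subgroup G} [Fintype H] [Fintype (P : Subgroup G)]
  {D : Setting P u a H} [Fintype (D.aut (H12.oneIrr H))] {f n t : ℕ}
  {χ : IrrCharacter G} {θ φ : IrrCharacter H} {ψ : (P : Subgroup G) →* ℂˣ}
  (h : Neg D f n χ θ ψ) {M : Ideal AlgInt} [M.IsPrime] (hM : IsPModular p M)

include h hM

/-- Automorphisms fixing the label preserve the block. -/
theorem galois_supp {i : IrrCharacter G} (hi : i ∈ D.supp φ) (σ : ℂ ≃+* ℂ)
    (hσ : ∀ k : H, σ ((φ : H → ℂ) k) = (φ : H → ℂ) k) :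
    (⟨(σ : ℂ → ℂ) ∘ (i : G → ℂ), H25.isIrrCharacter_ringEquiv_comp i.2 σ⟩ : IrrCharacter G) ∈
      D.supp φ := by
  set j : IrrCharacter G := ⟨(σ : ℂ → ℂ) ∘ (i : G → ℂ), H25.isIrrCharacter_ringEquiv_comp i.2 σ⟩
    with hj
  obtain ⟨x, hx, hne⟩ := id hi
  have hxG : (x : G) ≠ 1 := fun h' => hx (Subtype.ext h')
  have hix : (i : G → ℂ) x ≠ 0 := by
    rw [apply_eq_col D h.central_le hM hi x.2 hxG]
    exact hne
  have hjx : (j : G → ℂ) x ≠ 0 := by
    show σ ((i : G → ℂ) x) ≠ 0
    exact fun h0 => hix (σ.injective (h0.trans (map_zero σ).symm))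
  obtain ⟨φ', hφ'⟩ := exists_supp_of_ne_zero D h.central_le hx hjx
  have hdeg : (H12.degree (j : G → ℂ) : ℂ) = (H12.degree (i : G → ℂ) : ℂ) := by
    rw [← H12.irr_apply_one j, ← map_natCast σ (H12.degree (i : G → ℂ)), ← H12.irr_apply_one i]
    rfl
  have he : φ' = φ := by
    refine Subtype.ext (funext fun k => ?_)
    have h1 := apply_center D h.central_le hM hφ' k
    have h2 : (j : G → ℂ) k = (φ : H → ℂ) k * (H12.degree (j : G → ℂ) : ℂ) := by
      show σ ((i : G → ℂ) k) = _
      rw [apply_center D h.central_le hM hi k, map_mul, hσ, map_natCast, hdeg]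
    exact mul_right_cancel₀ (Nat.cast_ne_zero.2 (H12.irr_degree_pos j).ne') (h1.symm.trans h2)
  exact he ▸ hφ'

/-- The order of a central element divides a power of the degree, by the determinant. -/
theorem not_dvd_card_center {r : ℕ} (hr : r.Prime) (hrn : ¬ r ∣ n) : ¬ r ∣ Nat.card H := by
  classical
  intro hd
  haveI := Fact.mk hr
  obtain ⟨k, hk⟩ := exists_prime_orderOf_dvd_card' r hd
  obtain ⟨d, ρ, hρ, he⟩ := χ.2
  have hdn : d = n := by
    rw [← h.degree_eq, ← he, H12.degree_character, Module.finrank_fintype_fun_eq_card,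
      Fintype.card_fin]
  subst hdn
  have hχk := apply_center D h.central_le hM h.mem_supp k
  rw [h.degree_eq] at hχk
  have hnorm : ‖ρ.character (k : G)‖ = (Module.finrank ℂ (Fin d → ℂ) : ℝ) := by
    rw [he, hχk, norm_mul, norm_lin D h.central_le θ k, one_mul, Complex.norm_natCast,
      Module.finrank_fintype_fun_eq_card, Fintype.card_fin]
  obtain ⟨c, hc⟩ := H12.exists_scalar_of_norm_eq ρ (k : G) hnorm
  have hd0 : (d : ℂ) ≠ 0 := Nat.cast_ne_zero.2 (fun h0 => hrn (h0 ▸ dvd_zero r))
  have hcθ : c = (θ : H → ℂ) k := by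
    have h1 : ρ.character (k : G) = c * d := by
      show LinearMap.trace ℂ _ (ρ (k : G)) = _
      rw [hc, map_smul, LinearMap.trace_id, smul_eq_mul, Module.finrank_fintype_fun_eq_card,
        Fintype.card_fin]
    rw [he, hχk] at h1
    exact (mul_right_cancel₀ hd0 h1).symm
  let δ : G →* ℂˣ := MonoidHom.toHomUnits
    ((LinearMap.det : Module.End ℂ (Fin d → ℂ) →* ℂ).comp
      (show G →* Module.End ℂ (Fin d → ℂ) from ρ))
  have hδ : LinearMap.det (ρ (k : G)) = 1 := by
    have h1 := congrArg (fun l : G →* ℂˣ => ((l (k : G) : ℂˣ) : ℂ)) (h.perfect δ)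
    simpa [δ] using h1
  rw [hc, LinearMap.det_smul, LinearMap.det_id, mul_one, Module.finrank_fintype_fun_eq_card,
    Fintype.card_fin, hcθ] at hδ
  have hker : k ^ d = 1 := by
    refine Subtype.ext (h.faithful _ ?_)
    rw [apply_center D h.central_le hM h.mem_supp (k ^ d), H12.irr_apply_one, h.degree_eq]
    obtain ⟨l, hl⟩ := H12.exists_monoidHom_of_apply_one_eq_one (H12.isCharacter_irr θ)
      (lin_one D h.central_le θ)
    rw [← congrFun hl] at hδ ⊢
    rw [map_pow, Units.val_pow_eq_pow_val, hδ, one_mul]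
  have h2 := orderOf_dvd_of_pow_eq_one hker
  rw [hk] at h2
  exact hrn h2

/-- Values at elements of prime order are invariant under powers, for a character whose
conjugates fixing the label agree with it on regular elements. -/
theorem power_invariant {i : IrrCharacter G} (hi : i ∈ D.supp φ)
    (huniq : ∀ j : IrrCharacter G, j ∈ D.supp φ →
      H12.degree (j : G → ℂ) = H12.degree (i : G → ℂ) →
        ∀ g : G, ¬ p ∣ orderOf g → (j : G → ℂ) g = (i : G → ℂ) g)
    {g : G} {r : ℕ} (hr : r.Prime) (hg : orderOf g = r) (hrp : r ≠ p) (hrn : ¬ r ∣ n)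
    (k : ℕ) (hk : k + 1 < r) : (i : G → ℂ) (g ^ (k + 1)) = (i : G → ℂ) g := by
  obtain ⟨σ, hσc, hσ⟩ := exists_galois_pow (G := G) hr (j := k + 1)
    (fun hd => by have := Nat.le_of_dvd (by omega) hd; omega)
    (not_dvd_card_center h hM hr hrn) H.card_subgroup_dvd_card
  have hfix : ∀ x : H, σ ((φ : H → ℂ) x) = (φ : H → ℂ) x := fun x => by
    obtain ⟨l, hl⟩ := H12.exists_monoidHom_of_apply_one_eq_one (H12.isCharacter_irr φ)
      (lin_one D h.central_le φ)
    rw [← congrFun hl]
    refine hσc _ ?_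
    rw [← Units.val_pow_eq_pow_val, ← map_pow, pow_card_eq_one', map_one, Units.val_one]
  have hreg : ¬ p ∣ orderOf g := by
    rw [hg]
    exact fun hd => hrp ((Nat.prime_dvd_prime_iff_eq hp.out hr).1 hd).symm
  rw [← hσ _ (H12.isCharacter_irr i) g hg]
  refine huniq _ (galois_supp h hM hi σ hfix) ?_ g hreg
  have h1 : σ ((i : G → ℂ) 1) =
      (H12.degree ((⟨(σ : ℂ → ℂ) ∘ (i : G → ℂ), H25.isIrrCharacter_ringEquiv_comp i.2 σ⟩ :
        IrrCharacter G) : G → ℂ) : ℂ) :=
    H12.irr_apply_one (⟨(σ : ℂ → ℂ) ∘ (i : G → ℂ), H25.isIrrCharacter_ringEquiv_comp i.2 σ⟩ :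
      IrrCharacter G)
  rw [H12.irr_apply_one, map_natCast] at h1
  exact_mod_cast h1.symm

omit hM in
/-- The class sum of a block over all nontrivial elements of `P`, normalised. -/
noncomputable def twist (_h : Neg D f n χ θ ψ) {φ : IrrCharacter H} (Φ : Fam D f t ψ φ) (g : G) :
    ℂ :=
  ((p : ℂ) - 1) * ∑ i ∈ Φ.X, (i : G → ℂ) g / (H12.degree (i : G → ℂ) : ℂ) +
    (t : ℂ) * ((p : ℂ) * f - (f : ℂ) * f) *
      ((Φ.Y 1 : G → ℂ) g / (H12.degree (Φ.Y 1 : G → ℂ) : ℂ))

/-- The class sums of the principal block dominate those of every block. -/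
theorem twist_bound (hft : f * t + 1 = p) (Φ₁ : Fam D f t ψ (H12.oneIrr H)) {g : G}
    (hg : ¬ p ∣ orderOf g) :
    ∃ R : ℝ, twist h Φ₁ g = (R : ℂ) ∧
      ∀ (φ : IrrCharacter H) (Φ : Fam D f t ψ φ), ‖twist h Φ g‖ ≤ R := by
  classical
  set E := (Finset.univ : Finset (P : Subgroup G)).erase 1 with hE
  have hcard : E.card = p - 1 := by
    rw [hE, Finset.card_erase_of_mem (Finset.mem_univ _), Finset.card_univ,
      ← Nat.card_eq_fintype_card, D.hP]
  have key : ∀ (φ : IrrCharacter H) (Φ : Fam D f t ψ φ),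
      ∑ x ∈ E, conj (blockSum D φ (x : G) ((x⁻¹ : (P : Subgroup G)) : G) g) = twist h Φ g := by
    intro φ Φ
    have hset : (D.supp φ).toFinset = Φ.X ∪ (lab (p := p) t).image Φ.Y := by
      ext i
      rw [Set.mem_toFinset, Finset.mem_union, Finset.mem_image]
      exact Φ.mem_supp i
    have hdisj : Disjoint Φ.X ((lab (p := p) t).image Φ.Y) :=
      Finset.disjoint_left.2 fun i hi hi' => by
        obtain ⟨A, hA, rfl⟩ := Finset.mem_image.1 hi'
        exact Φ.disj A hA hi
    have hterm : ∀ (i : IrrCharacter G) (x : (P : Subgroup G)),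
        conj ((i : G → ℂ) x * (i : G → ℂ) ((x⁻¹ : (P : Subgroup G)) : G) * conj ((i : G → ℂ) g) /
          (i : G → ℂ) 1) =
          (i : G → ℂ) x * conj ((i : G → ℂ) x) *
            ((i : G → ℂ) g / (H12.degree (i : G → ℂ) : ℂ)) := fun i x => by
      rw [InvMemClass.coe_inv, H12.IsCharacter.inv (H12.isCharacter_irr i), H12.irr_apply_one,
        map_div₀, map_natCast, map_mul, map_mul, Complex.conj_conj, Complex.conj_conj]
      ring
    simp only [blockSum, map_sum, hterm]
    rw [Finset.sum_comm, hset, Finset.sum_union hdisj,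
      Finset.sum_image fun A hA B hB e => Φ.injY A hA B hB e, twist]
    congr 1
    · rw [Finset.mul_sum]
      refine Finset.sum_congr rfl fun i hi => ?_
      rw [← Finset.sum_mul, Finset.sum_congr rfl (g := fun _ => (1 : ℂ)) (fun x hx => by
        rw [Fam.valX' h hft Φ hi x (Finset.ne_of_mem_erase hx), map_intCast]
        rcases Φ.εX_eq i hi with h' | h' <;> rw [h'] <;> norm_num),
        Finset.sum_const, hcard, nsmul_eq_mul, mul_one, Nat.cast_sub hp.out.one_le, Nat.cast_one]
    · rw [Finset.sum_congr rfl (g := fun _ => ((p : ℂ) * f - (f : ℂ) * f) *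
          ((Φ.Y 1 : G → ℂ) g / (H12.degree (Φ.Y 1 : G → ℂ) : ℂ))) (fun A hA => by
        rw [← Finset.sum_mul, Finset.sum_congr rfl (g := fun x =>
            per ψ f A x * conj (per ψ f A x)) (fun x hx => by
          rw [Fam.valY' h hft Φ hA x (Finset.ne_of_mem_erase hx), map_mul, map_intCast]
          rcases Φ.δ_eq with h' | h' <;> rw [h'] <;> push_cast <;> ring),
          sum_erase_per_mul_conj D.hP h.psi_ne hft A A hA hA, if_pos rfl, Φ.regY A hA g hg,
          Fam.degree_Y_eq h hft Φ hA]),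
        Finset.sum_const, card_lab hft, nsmul_eq_mul, mul_assoc]
  choose r hr0 hr hb using fun x : E =>
    blockSum_bound D hM h.central_le (x.1).2
      (fun h' => Finset.ne_of_mem_erase x.2 (Subtype.ext h')) (((x.1)⁻¹ : (P : Subgroup G)) : G) g
  refine ⟨∑ x, r x, ?_, fun φ Φ => ?_⟩
  · rw [← key _ Φ₁, ← Finset.sum_coe_sort E, Finset.sum_congr rfl fun x _ => by
      rw [hr x, Complex.conj_ofReal]]
    push_cast
    rfl
  · rw [← key φ Φ, ← Finset.sum_coe_sort E]
    refine (norm_sum_le _ _).trans (Finset.sum_le_sum fun x _ => ?_)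
    rw [Complex.norm_conj]
    exact hb x φ

end H14.Deg16
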