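import Cfsg.Agent.H14.Deg16.Blocks
import Cfsg.Agent.H14.Deg16.Arith

/-!
No perfect group has a faithful character of degree sixteen with inertial index three at the
prime nineteen.
-/

set_option autoImplicit false
set_option linter.style.haveILetI false
set_option linter.unusedSectionVars false

open Cfsg
open scoped ComplexConjugate

namespace H14.Deg16

open H85.D1 H15.HalfDeg H15.Degree

universe u

variable {G : Type u} [Group G] [Fintype G] {p : ℕ} [hp : Fact p.Prime]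
  {P : Sylow p G} {u a : G} {H : Subgroup G} [Fintype H] [Fintype (P : Subgroup G)]
  {D : Setting P u a H} [Fintype (D.aut (H12.oneIrr H))]
  {χ : IrrCharacter G} {θ : IrrCharacter H} {ψ : (P : Subgroup G) →* ℂˣ}
  (h : Neg D 3 16 χ θ ψ) (hft : 3 * 6 + 1 = p) {M : Ideal AlgInt} [M.IsPrime]
  (hM : IsPModular p M)

include h hft hM

/-- The value of the character of degree sixteen at an element of odd prime order. -/
theorem chi_value {g : G} {r : ℕ} (hr : r.Prime) (hg : orderOf g = r) (hrp : r ≠ p) (hr2 : r ≠ 2) :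
    ∃ z k : ℤ, (∀ i : ℕ, i + 1 < r → (χ : G → ℂ) (g ^ (i + 1)) = (χ : G → ℂ) g) ∧
      (χ : G → ℂ) g = (z : ℂ) ∧ (16 : ℤ) - z = (r : ℤ) * k ∧ -16 ≤ ((r : ℤ) - 1) * z ∧ z < 16 := by
  have hrn : ¬ r ∣ 16 := fun hd => by
    have h16 : r ∣ 2 ^ 4 := by simpa using hd
    exact hr2 ((Nat.prime_dvd_prime_iff_eq hr Nat.prime_two).1 (hr.dvd_of_dvd_pow h16))
  have hinv : ∀ i : ℕ, i + 1 < r → (χ : G → ℂ) (g ^ (i + 1)) = (χ : G → ℂ) g := fun i hi => by
    refine power_invariant h hM h.mem_supp (fun j hj hjd g' hg' => ?_) hr hg hrp hrn i hi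
    obtain ⟨Θ, -, hΘ1⟩ := exists_theta h hft (by norm_num) hM
    rw [h.degree_eq] at hjd
    obtain ⟨-, A, hA, hAj⟩ := Fam.eq_Y_of_degree h hft (by norm_num) Θ hj hjd
    rw [← hAj, Θ.regY A hA g' hg', hΘ1]
  obtain ⟨z, k, hz, hk, hlo, hhi⟩ := exists_int (H12.isCharacter_irr χ) hr hg hinv
  rw [h.degree_eq] at hk hlo hhi
  push_cast at hk hlo hhi
  refine ⟨z, k, hinv, hz, hk, hlo, lt_of_le_of_ne hhi fun he => ?_⟩
  have hg1 : g = 1 := h.faithful g (by rw [hz, he, H12.irr_apply_one, h.degree_eq]; norm_num)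
  exact hr.ne_one (by rw [← hg, hg1, orderOf_one])

/-- No prime above nineteen divides the order. -/
theorem prime_le {r : ℕ} (hr : r.Prime) (hd : r ∣ Nat.card G) : r ≤ 19 := by
  by_contra hlt
  haveI := Fact.mk hr
  obtain ⟨g, hg⟩ := exists_prime_orderOf_dvd_card' r hd
  obtain ⟨z, k, -, -, hk, hlo, hhi⟩ := chi_value h hft hM hr hg (by omega) (by omega)
  have hr' : (20 : ℤ) ≤ r := by exact_mod_cast (by omega : 20 ≤ r)
  have hz0 : 0 ≤ z := by
    by_contra hn
    have : ((r : ℤ) - 1) * z ≤ ((r : ℤ) - 1) * (-1) :=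
      mul_le_mul_of_nonneg_left (by omega) (by omega)
    omega
  rcases le_or_gt k 0 with h0 | h0
  · have : (r : ℤ) * k ≤ 0 := mul_nonpos_iff.2 (Or.inl ⟨by omega, h0⟩)
    omega
  · have : (r : ℤ) * 1 ≤ r * k := mul_le_mul_of_nonneg_left (by omega) (by omega)
    omega

set_option maxHeartbeats 4000000 in
/-- The contradiction. -/
theorem false_of_neg : False := by
  classical
  have ht : 3 ≤ 6 := by norm_num
  have hp19 : p = 19 := by omega
  have hpZ : (p : ℤ) = 19 := by omega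
  obtain ⟨Θ, hΘδ, hΘ1⟩ := exists_theta h hft ht hM
  obtain ⟨Φ⟩ := h.exists_fam hft hM (H12.oneIrr H)
  have hδ : Φ.δ = 1 := principal_sign h hft ht hM Θ hΘδ hΘ1 (by decide) le_rfl Φ
  have h1l := one_mem_lab (p := p) hft
  -- the multiplicities of the exceptional characters
  obtain ⟨k, z, hk, hkz, hks⟩ := rows_of h hft ht hM Θ hΘδ hΘ1 Φ 1 h1l
  have htot := row_total hft h1l hkz
  rw [hδ, if_pos rfl, one_mul] at htot
  have hz : z = 0 := by omega
  have hk2 : ∑ C ∈ lab (p := p) 6, k C = 2 := by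
    rw [hz] at htot; omega
  set F : G → ℂ := fun g => (χ : G → ℂ) g * conj ((χ : G → ℂ) g) with hF
  have hkF : ∀ C, classInner F (Φ.Y C : G → ℂ) = (k C : ℂ) := fun C => by
    have := hk C
    rw [hΘ1] at this
    exact this
  have hFch : IsCharacter G F :=
    H12.IsCharacter.mul (H12.isCharacter_irr χ) (H12.IsCharacter.star (H12.isCharacter_irr _))
  obtain ⟨m, hm⟩ := H12.IsCharacter.exists_mult hFch
  have hFg : ∀ g, F g = ∑ i : IrrCharacter G, (m i : ℂ) * (i : G → ℂ) g := fun g => by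
    have := congrFun hm g
    simpa using this
  have hmi : ∀ i : IrrCharacter G, classInner F (i : G → ℂ) = (m i : ℂ) := fun i => by
    rw [hm, H12.classInner_sum_smul_irr]
  have hmY : ∀ C, m (Φ.Y C) = k C := fun C => by
    have := (hmi (Φ.Y C)).symm.trans (hkF C)
    exact_mod_cast this
  have hm1 : m (H12.oneIrr G) = 1 := by
    have h2 : classInner F (H12.oneIrr G : G → ℂ) = 1 := by
      rw [← H12.classInner_irr_self χ]
      simp only [H12.classInner_def, hF, H12.oneIrr_apply, map_one, mul_one]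
    rw [hmi] at h2
    exact_mod_cast h2
  -- the trivial character
  set u₁ : (P : Subgroup G) := ⟨u, D.u_mem⟩ with hu₁
  have hu1 : u₁ ≠ 1 := fun h' => D.u_ne_one (congrArg Subtype.val h')
  have hone : H12.oneIrr G ∈ Φ.X := by
    obtain ⟨φ', hφ'⟩ := exists_supp_of_ne_zero D h.central_le hu1
      (χ := H12.oneIrr G) (by rw [H12.oneIrr_apply]; exact one_ne_zero)
    have he : φ' = H12.oneIrr H := Subtype.ext (funext fun x => by
      have h1 := apply_center D h.central_le hM hφ' x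
      have h2 := H12.irr_apply_one (H12.oneIrr G)
      rw [H12.oneIrr_apply] at h1 h2
      rw [← h2, mul_one] at h1
      rw [H12.oneIrr_apply]; exact h1.symm)
    rcases (Φ.mem_supp _).1 (he ▸ hφ') with hX | ⟨A, hA, hAe⟩
    · exact hX
    · exact absurd hAe (Fam.one_ne_Y h hft ht Φ hA)
  have heps1 : Φ.εX (H12.oneIrr G) = 1 := by
    have h1 := Fam.valX' h hft Φ hone u₁ hu1
    rw [H12.oneIrr_apply] at h1
    exact_mod_cast h1.symm
  have hc2 : (Φ.X.erase (H12.oneIrr G)).card = 2 := by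
    rw [Finset.card_erase_of_mem hone, Φ.card_X]
  obtain ⟨i₀, j₀, hij₀, hX₀⟩ := Finset.card_eq_two.1 hc2
  -- the rest of the product
  set S := Φ.X ∪ (lab (p := p) 6).image Φ.Y with hS
  set R : G → ℂ := fun g => ∑ i ∈ Sᶜ, (m i : ℂ) * (i : G → ℂ) g with hRdef
  have hRch : IsCharacter G R := by
    have e : R = ∑ i ∈ Sᶜ, ((m i : ℂ) • (i : G → ℂ)) := by
      funext g; simp [hRdef]
    rw [e]
    exact H12.IsCharacter.sum _ _ fun i _ => H12.IsCharacter.natCast_smul (H12.isCharacter_irr i) (m i)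
  have hdisj : Disjoint Φ.X ((lab (p := p) 6).image Φ.Y) := Finset.disjoint_left.2 fun i hi hi' => by
    obtain ⟨A, hA, rfl⟩ := Finset.mem_image.1 hi'
    exact Φ.disj A hA hi
  have hdec : ∀ g, F g = ∑ i ∈ Φ.X, (m i : ℂ) * (i : G → ℂ) g +
      ∑ C ∈ lab (p := p) 6, (k C : ℂ) * (Φ.Y C : G → ℂ) g + R g := fun g => by
    rw [hFg, ← Finset.sum_add_sum_compl S, hS, Finset.sum_union hdisj,
      Finset.sum_image fun A hA B hB e => Φ.injY A hA B hB e]
    simp only [hmY]
    rfl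
  have hRP : ∀ x : (P : Subgroup G), x ≠ 1 → R x = 0 := by
    intro x hx
    refine Finset.sum_eq_zero fun i hi => ?_
    by_contra hne
    obtain ⟨hm0, hix⟩ := mul_ne_zero_iff.1 hne
    obtain ⟨φ', hφ'⟩ := exists_supp_of_ne_zero D h.central_le hx hix
    have hne' : φ' ≠ H12.oneIrr H := fun he => by
      rw [Finset.mem_compl, hS, Finset.mem_union, Finset.mem_image] at hi
      exact hi ((Φ.mem_supp i).1 (he ▸ hφ'))
    have hzero : classInner (H12.oneIrr H : H → ℂ) (φ' : H → ℂ) = 0 :=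
      H12.classInner_irr_ne hne'.symm
    have key : ∀ c : H, classInner F (i : G → ℂ) =
        classInner F (i : G → ℂ) * ((H12.oneIrr H : H → ℂ) c * conj ((φ' : H → ℂ) c)) := fun c => by
      rw [H12.classInner_def, mul_assoc, Finset.sum_mul]
      congr 1
      refine (Fintype.sum_equiv (Equiv.mulRight (c : G)) _ _ fun g => ?_).symm
      simp only [Equiv.coe_mulRight, hF, H12.oneIrr_apply]
      rw [central_mul D h.central_le hM h.mem_supp g c, central_mul D h.central_le hM hφ' g c,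
        map_mul, map_mul]
      linear_combination -((χ : G → ℂ) g * conj ((χ : G → ℂ) g) * (conj ((φ' : H → ℂ) c) *
        conj ((i : G → ℂ) g))) * theta_mul_conj h hft c
    have h1 := Finset.sum_congr rfl (fun c (_ : c ∈ (Finset.univ : Finset H)) => key c)
    rw [← Finset.mul_sum, H12.sum_mul_conj_eq_card_mul, hzero, mul_zero, mul_zero, Finset.sum_const,
      Finset.card_univ, nsmul_eq_mul, hmi] at h1
    rcases mul_eq_zero.1 h1 with h2 | h2
    · exact Fintype.card_ne_zero (Nat.cast_eq_zero.1 h2)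
    · exact hm0 h2
  -- the values on `P`
  have hB : Φ.εX i₀ * (m i₀ : ℤ) + Φ.εX j₀ * (m j₀ : ℤ) = 2 := by
    have h1 := hdec u₁
    rw [hRP u₁ hu1, add_zero, ← Finset.add_sum_erase _ _ hone, hX₀, Finset.sum_pair hij₀, hm1,
      H12.oneIrr_apply] at h1
    have hi₀ : i₀ ∈ Φ.X := Finset.mem_of_mem_erase (hX₀ ▸ Finset.mem_insert_self _ _)
    have hj₀ : j₀ ∈ Φ.X := Finset.mem_of_mem_erase
      (hX₀ ▸ Finset.mem_insert_of_mem (Finset.mem_singleton_self _))
    have hYs : ∀ C ∈ lab (p := p) 6, (k C : ℂ) * (Φ.Y C : G → ℂ) (u₁ : G) =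
        (cyc 3 (1 : ZMod p) C : ℂ) * per ψ 3 C u₁ := fun C hC => by
      rw [Fam.valY' h hft Φ hC u₁ hu1, hδ]
      have := hkz C hC
      rw [hδ, hz, one_mul, add_zero] at this
      have e : (k C : ℂ) = (cyc 3 (1 : ZMod p) C : ℂ) := by exact_mod_cast this
      rw [e]; push_cast; ring
    rw [Finset.sum_congr rfl hYs, Fam.valX' h hft Φ hi₀ u₁ hu1, Fam.valX' h hft Φ hj₀ u₁ hu1] at h1
    have h2 : F u₁ = per ψ 3 (1 : ZMod p) u₁ * conj (per ψ 3 (1 : ZMod p) u₁) := by
      simp only [hF]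
      rw [h.val_per hft u₁ hu1, map_neg]; ring
    rw [h2, per_one_mul_conj D.hP h.psi_ne hft 1 h1l, if_pos rfl] at h1
    have h3 : ((Φ.εX i₀ * (m i₀ : ℤ) + Φ.εX j₀ * (m j₀ : ℤ) : ℤ) : ℂ) = ((2 : ℤ) : ℂ) := by
      push_cast at h1 ⊢
      linear_combination -h1
    exact_mod_cast h3
  -- the ordering of the two further characters
  obtain ⟨i, j, hij, hXe, hsj, hmj, hb⟩ : ∃ i j : IrrCharacter G, i ≠ j ∧
      Φ.X.erase (H12.oneIrr G) = {i, j} ∧ Φ.εX j = 1 ∧ 1 ≤ (m j : ℤ) ∧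
      Φ.εX i * (m i : ℤ) + (m j : ℤ) = 2 := by
    have hi₀ : i₀ ∈ Φ.X := Finset.mem_of_mem_erase (hX₀ ▸ Finset.mem_insert_self _ _)
    have hj₀ : j₀ ∈ Φ.X := Finset.mem_of_mem_erase
      (hX₀ ▸ Finset.mem_insert_of_mem (Finset.mem_singleton_self _))
    by_cases hc : Φ.εX j₀ = 1 ∧ 1 ≤ (m j₀ : ℤ)
    · exact ⟨i₀, j₀, hij₀, hX₀, hc.1, hc.2, by rw [hc.1, one_mul] at hB; exact hB⟩
    · have h1 : Φ.εX i₀ = 1 ∧ 1 ≤ (m i₀ : ℤ) := by
        rcases Φ.εX_eq _ hi₀ with e | e <;> rcases Φ.εX_eq _ hj₀ with e' | e' <;>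
          rw [e, e'] at hB <;> rw [e'] at hc <;> rw [e] <;> omega
      exact ⟨j₀, i₀, hij₀.symm, by rw [hX₀, Finset.pair_comm], h1.1, h1.2,
        by rw [h1.1, one_mul] at hB; linarith⟩
  have hi : i ∈ Φ.X := Finset.mem_of_mem_erase (hXe ▸ Finset.mem_insert_self _ _)
  have hj : j ∈ Φ.X := Finset.mem_of_mem_erase
    (hXe ▸ Finset.mem_insert_of_mem (Finset.mem_singleton_self _))
  have hine : i ≠ H12.oneIrr G := Finset.ne_of_mem_erase (hXe ▸ Finset.mem_insert_self _ _)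
  have hjne : j ≠ H12.oneIrr G := Finset.ne_of_mem_erase
    (hXe ▸ Finset.mem_insert_of_mem (Finset.mem_singleton_self _))
  have hdec' : ∀ g, ¬ p ∣ orderOf g → F g = 1 + (m i : ℂ) * (i : G → ℂ) g +
      (m j : ℂ) * (j : G → ℂ) g + 2 * (Φ.Y 1 : G → ℂ) g + R g := fun g hg => by
    rw [hdec, ← Finset.add_sum_erase _ _ hone, hXe, Finset.sum_pair hij, hm1, H12.oneIrr_apply,
      Finset.sum_congr rfl (s₁ := lab (p := p) 6)
        (g := fun C => (k C : ℂ) * (Φ.Y 1 : G → ℂ) g) (fun C hC => by rw [Φ.regY C hC g hg]),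
      ← Finset.sum_mul, ← Nat.cast_sum, hk2]
    push_cast; ring
  have hrel : ∀ g, ¬ p ∣ orderOf g → (Φ.Y 1 : G → ℂ) g =
      1 + (Φ.εX i : ℂ) * (i : G → ℂ) g + (j : G → ℂ) g := fun g hg => by
    have h1 := Φ.rel g hg
    rw [hδ, ← Finset.add_sum_erase _ _ hone, hXe, Finset.sum_pair hij, heps1, hsj,
      H12.oneIrr_apply] at h1
    push_cast at h1
    linear_combination h1
  -- degrees
  have h1reg : ¬ p ∣ orderOf (1 : G) := by simp [hp.out.ne_one]
  set y : ℤ := (H12.degree (Φ.Y 1 : G → ℂ) : ℤ) with hy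
  set di : ℤ := (H12.degree (i : G → ℂ) : ℤ) with hdi
  set dj : ℤ := (H12.degree (j : G → ℂ) : ℤ) with hdj
  set R₀ : ℤ := (H12.degree R : ℤ) with hR₀
  have hrel1 : y = 1 + Φ.εX i * di + dj := by
    apply Int.cast_injective (α := ℂ)
    have := hrel 1 h1reg
    simp only [H12.irr_apply_one] at this
    simp only [hy, hdi, hdj]
    push_cast
    exact this
  have hsum1 : 256 = 1 + 2 * y + (m i : ℤ) * di + (m j : ℤ) * dj + R₀ := by
    apply Int.cast_injective (α := ℂ)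
    have := hdec' 1 h1reg
    simp only [hF, H12.irr_apply_one, h.degree_eq, map_natCast,
      H12.IsCharacter.apply_one_eq_degree hRch] at this
    simp only [hy, hdi, hdj, hR₀]
    push_cast
    push_cast at this
    linear_combination this
  have hymod : ∃ s : ℤ, y = 19 * s + 3 := by
    obtain ⟨s, -, hs⟩ := Fam.degree_Y h hft Φ h1l
    rw [hδ, hpZ] at hs
    exact ⟨s, by push_cast at hs ⊢; simp only [hy]; linarith⟩
  have hy3 : y ≠ 3 := fun he => Φ.no_small hδ (by omega) (by simp only [hy] at he; exact_mod_cast he)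
  have hXmod : ∀ c ∈ Φ.X, ∃ s : ℤ, (H12.degree (c : G → ℂ) : ℤ) + 18 * Φ.εX c = 19 * s := fun c hc => by
    obtain ⟨s, -, hs⟩ := Fam.degree_X h hft Φ hc
    rw [hpZ] at hs
    exact ⟨s, by push_cast at hs ⊢; linarith⟩
  have htwo : ∀ c : IrrCharacter G, c ≠ H12.oneIrr G → 2 ≤ (H12.degree (c : G → ℂ) : ℤ) := by
    intro c hc
    have hpos := H12.irr_degree_pos c
    by_contra hlt
    obtain ⟨l, hl⟩ := H12.exists_monoidHom_of_apply_one_eq_one (H12.isCharacter_irr c)
      (by rw [H12.irr_apply_one, show H12.degree (c : G → ℂ) = 1 by omega, Nat.cast_one])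
    exact hc (Subtype.ext (funext fun g => by
      rw [H12.oneIrr_apply, ← congrFun hl g, h.perfect l]; simp))
  have himod : (Φ.εX i = 1 ∧ di % 19 = 1) ∨ (Φ.εX i = -1 ∧ di % 19 = 18) := by
    obtain ⟨s, hs⟩ := hXmod i hi
    rcases Φ.εX_eq i hi with e | e <;> rw [e] at hs
    · exact Or.inl ⟨e, by simp only [hdi]; omega⟩
    · exact Or.inr ⟨e, by simp only [hdi]; omega⟩
  have hjmod : dj % 19 = 1 := by
    obtain ⟨s, hs⟩ := hXmod j hj
    rw [hsj] at hs
    simp only [hdj]; omega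
  have hy0 : 0 < y := by
    simp only [hy]; exact_mod_cast H12.irr_degree_pos (Φ.Y 1)
  have hdvd : ∀ (c : IrrCharacter G) (r : ℕ), (r : ℤ) ∣ (H12.degree (c : G → ℂ) : ℤ) →
      r ∣ Nat.card G := fun c r hd =>
    (Int.natCast_dvd_natCast.1 hd).trans (H12.irr_degree_dvd_card c)
  -- the patterns
  have hpat : Pattern y (Φ.εX i) di dj (m i) (m j) := by
    rcases pattern_cases hymod hy3 hy0 (htwo i hine) (htwo j hjne) himod hjmod hrel1 hb
      (Int.natCast_nonneg _) hmj (Int.natCast_nonneg _) hsum1 with hgood | e | e | e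
    · exact hgood
    all_goals exfalso
    · have := prime_le h hft hM (r := 41) (by norm_num) (hdvd (Φ.Y 1) 41 ⟨1, by push_cast; omega⟩)
      omega
    · have := prime_le h hft hM (r := 79) (by norm_num) (hdvd (Φ.Y 1) 79 ⟨1, by push_cast; omega⟩)
      omega
    · have := prime_le h hft hM (r := 37) (by norm_num) (hdvd i 37 ⟨1, by push_cast; omega⟩)
      omega
  -- an element of order `r`
  obtain ⟨r, hr, hrp, hr2, hrd, hcase⟩ : ∃ r : ℕ, r.Prime ∧ r ≠ p ∧ r ≠ 2 ∧ r ∣ Nat.card G ∧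
      ((r = 11 ∧ y ≠ 60) ∨ (r = 13 ∧ y = 60)) := by
    by_cases h60 : y = 60
    · have hd : (13 : ℤ) ∣ di ∨ (13 : ℤ) ∣ dj := by
        unfold Pattern at hpat
        rcases hpat with hq | hq | hq | hq | hq | hq | hq | hq | hq | hq <;> omega
      refine ⟨13, by norm_num, by omega, by norm_num, ?_, Or.inr ⟨rfl, h60⟩⟩
      rcases hd with hd | hd
      · exact hdvd i 13 (by simpa [hdi] using hd)
      · exact hdvd j 13 (by simpa [hdj] using hd)
    · have hd : (11 : ℤ) ∣ y ∨ (11 : ℤ) ∣ di := by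
        unfold Pattern at hpat
        rcases hpat with hq | hq | hq | hq | hq | hq | hq | hq | hq | hq <;> omega
      refine ⟨11, by norm_num, by omega, by norm_num, ?_, Or.inl ⟨rfl, h60⟩⟩
      rcases hd with hd | hd
      · exact hdvd (Φ.Y 1) 11 (by simpa [hy] using hd)
      · exact hdvd i 11 (by simpa [hdi] using hd)
  haveI := Fact.mk hr
  obtain ⟨g, hg⟩ := exists_prime_orderOf_dvd_card' r hrd
  have hrn : ¬ r ∣ 16 := by rcases hcase with ⟨rfl, -⟩ | ⟨rfl, -⟩ <;> norm_num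
  have hregk : ∀ s : ℕ, ¬ p ∣ orderOf (g ^ s) := fun s hd =>
    hrp ((Nat.prime_dvd_prime_iff_eq hp.out hr).1 (hg ▸ hd.trans (orderOf_pow_dvd (x := g) s))).symm
  have hreg : ¬ p ∣ orderOf g := by simpa using hregk 1
  obtain ⟨cv, kc, hχinv, hχg, hkc, hclo, hchi⟩ := chi_value h hft hM hr hg hrp hr2
  have hsupY : Φ.Y 1 ∈ D.supp (H12.oneIrr H) := (Φ.mem_supp _).2 (Or.inr ⟨1, h1l, rfl⟩)
  have hYinv : ∀ s : ℕ, s + 1 < r → (Φ.Y 1 : G → ℂ) (g ^ (s + 1)) = (Φ.Y 1 : G → ℂ) g := by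
    intro s hs
    refine power_invariant h hM hsupY (fun c hc hcd g' hg' => ?_) hr hg hrp hrn s hs
    rcases (Φ.mem_supp c).1 hc with hcX | ⟨A, hA, rfl⟩
    · exfalso
      obtain ⟨s', hs'⟩ := hXmod c hcX
      obtain ⟨s'', hs''⟩ := hymod
      rcases Φ.εX_eq c hcX with e | e <;> rw [e, hcd, ← hy, hs''] at hs' <;> omega
    · exact Φ.regY A hA g' hg'
  have hXinv : ∀ c ∈ ({i, j} : Finset (IrrCharacter G)), ∀ s : ℕ, s + 1 < r →
      (c : G → ℂ) (g ^ (s + 1)) = (c : G → ℂ) g := by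
    intro c hc s hs
    have hcX : c ∈ Φ.X := Finset.mem_of_mem_erase (hXe ▸ hc)
    have hdij : di ≠ dj := by
      unfold Pattern at hpat
      rcases hpat with hq | hq | hq | hq | hq | hq | hq | hq | hq | hq <;> omega
    refine power_invariant h hM ((Φ.mem_supp c).2 (Or.inl hcX)) (fun c' hc' hcd g' _ => ?_)
      hr hg hrp hrn s hs
    suffices c' = c by rw [this]
    rcases (Φ.mem_supp c').1 hc' with hc'X | ⟨A, hA, rfl⟩
    · by_cases h1 : c' = H12.oneIrr G
      · exfalso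
        have h2 := htwo c (Finset.ne_of_mem_erase (hXe ▸ hc))
        rw [← hcd, h1] at h2
        have h3 := H12.irr_apply_one (H12.oneIrr G)
        rw [H12.oneIrr_apply] at h3
        have h4 : H12.degree (H12.oneIrr G : G → ℂ) = 1 := by exact_mod_cast h3.symm
        rw [h4] at h2
        norm_num at h2
      · have hc'2 : c' ∈ ({i, j} : Finset (IrrCharacter G)) :=
          hXe ▸ Finset.mem_erase.2 ⟨h1, hc'X⟩
        rw [Finset.mem_insert, Finset.mem_singleton] at hc hc'2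
        rcases hc with rfl | rfl <;> rcases hc'2 with rfl | rfl <;> first
          | rfl
          | (exfalso; exact hdij (by simp only [hdi, hdj, hcd]))
    · exfalso
      obtain ⟨s', hs'⟩ := hXmod c hcX
      obtain ⟨s'', hs''⟩ := hymod
      rw [Fam.degree_Y_eq h hft Φ hA] at hcd
      rcases Φ.εX_eq c hcX with e | e <;> rw [e, ← hcd, ← hy, hs''] at hs' <;> omega
  have hiinv := hXinv i (Finset.mem_insert_self _ _)
  have hjinv := hXinv j (Finset.mem_insert_of_mem (Finset.mem_singleton_self _))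
  obtain ⟨Y, k1, hYg, hk1, hYlo, hYhi⟩ := exists_int (H12.isCharacter_irr (Φ.Y 1)) hr hg hYinv
  obtain ⟨xi, k2, hig, hk2', hilo, hihi⟩ := exists_int (H12.isCharacter_irr i) hr hg hiinv
  obtain ⟨xj, k3, hjg, hk3, hjlo, hjhi⟩ := exists_int (H12.isCharacter_irr j) hr hg hjinv
  have hRval : ∀ g', ¬ p ∣ orderOf g' → R g' = F g' - (1 + (m i : ℂ) * (i : G → ℂ) g' +
      (m j : ℂ) * (j : G → ℂ) g' + 2 * (Φ.Y 1 : G → ℂ) g') := fun g' hg' => by
    rw [hdec' g' hg']; ring
  obtain ⟨w, k4, hwg, hk4, hwlo, hwhi⟩ := exists_int hRch hr hg fun s hs => by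
    rw [hRval _ (hregk _), hRval _ hreg, hYinv s hs, hiinv s hs, hjinv s hs]
    simp only [hF]
    rw [hχinv s hs]
  have hrelg : Y = 1 + Φ.εX i * xi + xj := by
    apply Int.cast_injective (α := ℂ)
    have := hrel g hreg
    rw [hYg, hig, hjg] at this
    push_cast
    exact this
  have hvalg : cv * cv = 1 + 2 * Y + (m i : ℤ) * xi + (m j : ℤ) * xj + w := by
    apply Int.cast_injective (α := ℂ)
    have := hdec' g hreg
    simp only [hF] at this
    rw [hχg, hYg, hig, hjg, hwg, map_intCast] at this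
    push_cast
    linear_combination this
  -- the class sums
  have hT : (((r : ℤ) - 1) * cv - 3) * (di * dj * y) ≤
      ((r : ℤ) - 1) * (di * dj * y + xi * (dj * y) + xj * (di * y) + 16 * Y * (di * dj)) := by
    have hdiR : (0 : ℝ) < (di : ℝ) := by
      have := htwo i hine
      simp only [hdi] at this ⊢
      exact_mod_cast (by omega : (0 : ℤ) < (H12.degree (i : G → ℂ) : ℤ))
    have hdjR : (0 : ℝ) < (dj : ℝ) := by
      have := htwo j hjne
      simp only [hdj] at this ⊢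
      exact_mod_cast (by omega : (0 : ℤ) < (H12.degree (j : G → ℂ) : ℤ))
    have hyR : (0 : ℝ) < (y : ℝ) := by exact_mod_cast hy0
    set T₁ : ℝ := 18 * (1 + (xi : ℝ) / di + (xj : ℝ) / dj) + 288 * ((Y : ℝ) / y) with hT₁
    have hpC : (p : ℂ) = 19 := by rw [hp19]; norm_num
    have hdC : ∀ c : IrrCharacter G, (H12.degree (c : G → ℂ) : ℂ) =
        (((H12.degree (c : G → ℂ) : ℤ) : ℝ) : ℂ) := fun c => by push_cast; rfl
    have hb1 : ∀ s : ℕ, s + 1 < r → (twist h Θ (g ^ (s + 1))).re ≤ T₁ := by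
      intro s hs
      obtain ⟨R', hR', hle⟩ := twist_bound h hM hft Φ (hregk (s + 1))
      have e : twist h Φ (g ^ (s + 1)) = (T₁ : ℂ) := by
        rw [twist, ← Finset.add_sum_erase _ _ hone, hXe, Finset.sum_pair hij, H12.oneIrr_apply,
          hiinv s hs, hjinv s hs, hYinv s hs, hig, hjg, hYg, hpC]
        have h4 : (H12.degree (H12.oneIrr G : G → ℂ) : ℂ) = 1 := by
          rw [← H12.irr_apply_one (H12.oneIrr G), H12.oneIrr_apply]
        rw [h4, hdC i, hdC j, hdC (Φ.Y 1), ← hdi, ← hdj, ← hy, hT₁]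
        push_cast
        ring
      have e2 : R' = T₁ := by
        have := hR'.symm.trans e
        exact_mod_cast this
      exact (Complex.re_le_norm _).trans (e2 ▸ hle _ Θ)
    have hsum : ((r : ℝ) - 1) * 18 * (cv : ℝ) - 54 ≤
        ∑ s ∈ Finset.range (r - 1), (twist h Θ (g ^ (s + 1))).re := by
      have e : ∀ s ∈ Finset.range (r - 1), (twist h Θ (g ^ (s + 1))).re =
          18 * ∑ c ∈ Θ.X, ((c : G → ℂ) (g ^ (s + 1))).re / (H12.degree (c : G → ℂ) : ℝ) +
            18 * (cv : ℝ) := by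
        intro s hs
        have hs' : s + 1 < r := by have := Finset.mem_range.1 hs; omega
        rw [twist, hpC, hΘ1, hχinv s hs', hχg, h.degree_eq]
        simp only [Complex.add_re, Complex.mul_re, Complex.sub_re, Complex.re_sum]
        rw [Finset.sum_congr rfl (g := fun c : IrrCharacter G =>
          ((c : G → ℂ) (g ^ (s + 1))).re / (H12.degree (c : G → ℂ) : ℝ)) fun c _ =>
            Complex.div_natCast_re _ _]
        norm_num
        ring
      rw [Finset.sum_congr rfl e, Finset.sum_add_distrib, ← Finset.mul_sum, Finset.sum_comm,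
        Finset.sum_const, Finset.card_range, nsmul_eq_mul, Nat.cast_sub hr.one_le, Nat.cast_one]
      have hlow : ∀ c ∈ Θ.X, (-1 : ℝ) ≤ ∑ s ∈ Finset.range (r - 1),
          ((c : G → ℂ) (g ^ (s + 1))).re / (H12.degree (c : G → ℂ) : ℝ) := fun c _ => by
        rw [← Finset.sum_div, le_div_iff₀ (by exact_mod_cast H12.irr_degree_pos c), neg_one_mul]
        exact re_sum_ge (H12.isCharacter_irr c) hg
      have h3 := Finset.sum_le_sum hlow
      rw [Finset.sum_const, Θ.card_X, nsmul_eq_mul] at h3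
      push_cast at h3
      linarith
    have hle : ((r : ℝ) - 1) * 18 * (cv : ℝ) - 54 ≤ ((r : ℝ) - 1) * T₁ := by
      refine hsum.trans ((Finset.sum_le_sum fun s hs => hb1 s (by
        have := Finset.mem_range.1 hs; omega)).trans (le_of_eq ?_))
      rw [Finset.sum_const, Finset.card_range, nsmul_eq_mul, Nat.cast_sub hr.one_le, Nat.cast_one]
    have e : T₁ * ((di : ℝ) * dj * y) = 18 *
        ((di : ℝ) * dj * y + xi * (dj * y) + xj * (di * y) + 16 * Y * (di * dj)) := by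
      rw [hT₁]; field_simp; ring
    have h5 := mul_le_mul_of_nonneg_right hle (by positivity : (0 : ℝ) ≤ (di : ℝ) * dj * y)
    rw [mul_assoc _ T₁, e] at h5
    have h6 : (((((r : ℤ) - 1) * cv - 3) * (di * dj * y) : ℤ) : ℝ) ≤
        ((((r : ℤ) - 1) * (di * dj * y + xi * (dj * y) + xj * (di * y) + 16 * Y * (di * dj)) : ℤ) : ℝ) := by
      push_cast
      linarith
    exact_mod_cast h6
  rcases hcase with ⟨rfl, h60⟩ | ⟨rfl, h60⟩
  · norm_num at hclo hkc hk1 hYlo hk2' hilo hk3 hjlo hk4 hwlo hT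
    obtain rfl : cv = 5 := by omega
    exact eleven_kill hpat h60 hsum1 hrelg (by linarith) ⟨⟨k1, hk1⟩, hYlo, hYhi⟩
      ⟨⟨k2, hk2'⟩, hilo, hihi⟩ ⟨⟨k3, hk3⟩, hjlo, hjhi⟩ ⟨⟨k4, hk4⟩, hwlo, hwhi⟩ (by norm_num at hT ⊢; linarith)
  · norm_num at hclo hkc hk1 hYlo hk2' hilo hk3 hjlo hk4 hwlo hT
    obtain rfl : cv = 3 := by omega
    exact thirteen_kill hpat h60 hsum1 hrelg (by linarith) ⟨⟨k1, hk1⟩, hYlo, hYhi⟩
      ⟨⟨k2, hk2'⟩, hilo, hihi⟩ ⟨⟨k3, hk3⟩, hjlo, hjhi⟩ ⟨⟨k4, hk4⟩, hwlo, hwhi⟩ (by norm_num at hT ⊢; linarith)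

end H14.Deg16
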