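import Cfsg.Agent.H15.Degree.Main
import Cfsg.Agent.H14.Deg16.Core

/-!
A group whose Sylow subgroup of order nineteen is not normal has no faithful irreducible
character of degree sixteen.
-/

set_option autoImplicit false
set_option linter.style.haveILetI false
set_option linter.unusedSectionVars false

open Cfsg
open scoped ComplexConjugate

namespace H14.Deg16

open H85.D1 H15.HalfDeg H15.Degree

universe u

variable {A : Type u} [Group A] [Finite A] {p : ℕ} [hp : Fact p.Prime]

/-- A faithful irreducible character of degree below `p - 1` of a group with a non-normal Sylow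
subgroup of order `p` restricts irreducibly to the perfect group generated by the elements of
order `p`, where it has either half degree or the standard reduced data. -/
theorem exists_reduced_data (P : Sylow p A) (hP : Nat.card P = p)
    (hnn : ¬ (P : Subgroup A).Normal) (ζ : A → ℂ) (hζ : IsIrrCharacter A ζ)
    (hfaith : ∀ g : A, ζ g = ζ 1 → g = 1) (hdeg : H12.degree ζ + 2 ≤ p) :
    2 * H12.degree ζ + 1 = p ∨
    ∃ (L : Subgroup A) (_ : Fintype L) (P' : Sylow p L) (_ : Fintype (P' : Subgroup L)) (u a : L)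
      (H : Subgroup L) (_ : Fintype H) (D : Setting P' u a H) (M : Ideal AlgInt) (_ : M.IsPrime)
      (_ : IsPModular p M) (_ : Fintype (D.aut (H12.oneIrr H)))
      (χ : IrrCharacter L) (θ : IrrCharacter H) (ψ : (P' : Subgroup L) →* ℂˣ) (f : ℕ),
      H12.degree ζ + f = p ∧ Neg D f (H12.degree ζ) χ θ ψ := by
  classical
  letI : Fintype A := Fintype.ofFinite A
  have hp' : p.Prime := hp.out
  obtain ⟨M, hM⟩ := H22.exists_isPModular p hp'
  haveI : M.IsPrime := hM.2.1.isPrime
  obtain ⟨u, a, H, D⟩ := exists_setting hP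
  haveI : Fintype H := Fintype.ofFinite _
  haveI : Fintype (P : Subgroup A) := Fintype.ofFinite _
  haveI : Fintype (D.aut (H12.oneIrr H)) := Fintype.ofFinite _
  set χA : IrrCharacter A := ⟨ζ, hζ⟩ with hχA
  obtain ⟨hfA2, hfA, hfAd, θA, hθA, hSA⟩ := exists_colY D hM hnn χA hdeg hfaith
  set fA := Nat.card (D.aut (H12.oneIrr H)) with hfAdef
  have hcls := card_classes D
  rw [← hfAdef] at hcls
  -- the subgroup generated by the elements of order `p`
  set L := Subgroup.closure {g : A | g ^ p = 1} with hL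
  haveI hLn : L.Normal := by
    refine Subgroup.normalizer_eq_top_iff.1 (top_le_iff.1 fun g _ => ?_)
    rw [Subgroup.mem_normalizer_iff_map_conj_eq, hL, MonoidHom.map_closure]
    congr 1
    ext y
    constructor
    · rintro ⟨z, hz, rfl⟩
      show (MulAut.conj g z) ^ p = 1
      rw [← map_pow, show z ^ p = 1 from hz, map_one]
    · intro hy
      refine ⟨g⁻¹ * y * g, ?_, by simp [mul_assoc]⟩
      show (g⁻¹ * y * g) ^ p = 1
      rw [show g⁻¹ * y * g = g⁻¹ * y * (g⁻¹)⁻¹ by rw [inv_inv], conj_pow,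
        show y ^ p = 1 from hy, mul_one, mul_inv_cancel]
  have hmemL : ∀ g : A, g ^ p = 1 → g ∈ L := fun g hg => Subgroup.subset_closure hg
  have hpowP : ∀ x ∈ (P : Subgroup A), x ^ p = 1 := fun x hx => H15.PSubTwo.pow_p_eq_one D hx
  have hPL : (P : Subgroup A) ≤ L := fun x hx => hmemL x (hpowP x hx)
  haveI : Fintype L := Fintype.ofFinite _
  set P' := P.subtype hPL with hP'
  have hP'c : Nat.card P' = p := by
    exact (Nat.card_congr (Subgroup.subgroupOfEquivOfLe hPL).toEquiv).trans hP
  obtain ⟨u', a', H', D'⟩ := exists_setting hP'c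
  haveI : Fintype H' := Fintype.ofFinite _
  haveI : Fintype (P' : Subgroup L) := Fintype.ofFinite _
  haveI : Fintype (D'.aut (H12.oneIrr H')) := Fintype.ofFinite _
  have hgen : Subgroup.closure {g : L | g ^ p = 1} = ⊤ := by
    refine Eq.trans (congrArg _ ?_) (Subgroup.closure_closure_coe_preimage (k := {g : A | g ^ p = 1}))
    ext g
    simp only [Set.mem_setOf_eq, Set.mem_preimage, ← SubmonoidClass.coe_pow]
    exact ⟨fun h => by rw [h]; rfl, fun h => Subtype.ext h⟩
  have hP'n : ¬ (P' : Subgroup L).Normal := by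
    intro hN
    refine hnn ⟨fun x hx g => ?_⟩
    set y := g * x * g⁻¹ with hy
    have hyp : y ^ p = 1 := by rw [hy, conj_pow, hpowP x hx, mul_one, mul_inv_cancel]
    obtain ⟨k, -, hk⟩ := (Nat.dvd_prime_pow hp').1
      ((pow_one p).symm ▸ orderOf_dvd_of_pow_eq_one hyp : orderOf y ∣ p ^ 1)
    obtain ⟨z, hz, hconj⟩ := H20.FreeSylow.exists_isConj_mem (P := P')
      (y := (⟨y, hmemL y hyp⟩ : L)) ⟨k, by rw [Subgroup.orderOf_mk, hk]⟩
    obtain ⟨t, ht⟩ := isConj_iff.1 hconj.symm
    have h1 := hN.conj_mem z hz t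
    rw [ht] at h1
    exact h1
  set u₁ : ↥(P' : Subgroup L) := ⟨⟨u, hPL D.u_mem⟩, D.u_mem⟩ with hu₁
  have hu₁1 : u₁ ≠ 1 := fun h' => D.u_ne_one
    (congrArg (fun w : ↥(P' : Subgroup L) => ((w : L) : A)) h')
  -- the inertial group of `L` embeds
  choose tt htt0 htt using fun α : D'.aut (H12.oneIrr H') => D'.mem_aut_iff.1 α.2
  have httN : ∀ α, ((tt α : L) : A) ∈ Subgroup.normalizer ((P : Subgroup A) : Set A) := fun α => by
    have hmem : ((tt α : L) : A) * u * ((tt α : L) : A)⁻¹ ∈ (P : Subgroup A) := by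
      have h1 := ((α : MulAut (P' : Subgroup L)) u₁).2
      rw [htt α u₁] at h1
      exact h1
    exact D.mem_normalizer D.u_mem D.u_ne_one hmem rfl
  let emb : D'.aut (H12.oneIrr H') → D.aut (H12.oneIrr H) := fun α =>
    ⟨(P : Subgroup A).normalizerMonoidHom ⟨_, httN α⟩,
      D.mem_aut_iff.2 ⟨_, by rw [D.stab_one]; exact httN α, fun x => rfl⟩⟩
  have hemb : Function.Injective emb := by
    intro α β he
    have h1 : ((tt α : L) : A) * u * ((tt α : L) : A)⁻¹ =
        ((tt β : L) : A) * u * ((tt β : L) : A)⁻¹ :=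
      congrArg (fun γ : D.aut (H12.oneIrr H) =>
        (((γ : MulAut (P : Subgroup A)) ⟨u, D.u_mem⟩ : (P : Subgroup A)) : A)) he
    refine Subtype.ext (MulEquiv.ext fun x => ?_)
    obtain ⟨i, rfl⟩ := zpowers_top hP'c hu₁1 x
    rw [map_zpow, map_zpow]
    congr 1
    refine Subtype.ext (Subtype.ext ?_)
    rw [htt α u₁, htt β u₁]
    exact h1
  set fL := Nat.card (D'.aut (H12.oneIrr H')) with hfLdef
  have hfle : fL ≤ fA := Nat.card_le_card_of_injective emb hemb
  -- the constituent of the restriction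
  obtain ⟨mu, hmu⟩ := H12.IsCharacter.exists_mult
    (H12.IsCharacter.res (H12.isCharacter_irr χA) L)
  have hmy : ∀ y : L, ζ y = ∑ i : IrrCharacter L, (mu i : ℂ) * (i : L → ℂ) y := fun y => by
    have := congrFun hmu y
    simpa using this
  have hdegL : H12.degree ζ = ∑ i : IrrCharacter L, mu i * H12.degree (i : L → ℂ) := by
    have h := hmy 1
    rw [OneMemClass.coe_one, H12.IsCharacter.apply_one_eq_degree
      (H12.isCharacter_of_isIrrCharacter hζ)] at h
    simp only [H12.irr_apply_one] at h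
    exact_mod_cast h
  have hterm : ∀ i, mu i * H12.degree (i : L → ℂ) ≤ H12.degree ζ := fun i => by
    rw [hdegL]
    exact Finset.single_le_sum (f := fun i : IrrCharacter L => mu i * H12.degree (i : L → ℂ))
      (fun i _ => Nat.zero_le _) (Finset.mem_univ i)
  have hscalar : ∀ i : IrrCharacter L, 2 * H12.degree (i : L → ℂ) + 1 < p → ∀ x : L,
      x ∈ (P' : Subgroup L) → ∀ g : L, (i : L → ℂ) (x * g * (g * x)⁻¹) = (i : L → ℂ) 1 := by
    intro i hi x hx g
    have hnorm := D'.norm_eq_of_small hM hgen i (by omega) (x := x) hx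
    obtain ⟨k, σ, hσ, he'⟩ := i.2
    rw [← he'] at hnorm ⊢
    rw [H12.degree_character] at hnorm
    obtain ⟨ω, hω⟩ := H12.exists_scalar_of_norm_eq σ x hnorm
    have h1 : σ (x * g) = σ (g * x) := by
      rw [map_mul, map_mul, hω]
      ext v
      simp
    show LinearMap.trace ℂ _ (σ (x * g * (g * x)⁻¹)) = LinearMap.trace ℂ _ (σ 1)
    rw [map_mul, h1, ← map_mul, mul_inv_cancel]
  obtain ⟨ψ₀, hψ₀, hbig⟩ : ∃ i : IrrCharacter L, mu i ≠ 0 ∧ p ≤ 2 * H12.degree (i : L → ℂ) + 1 := by
    by_contra! hall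
    refine hP'n ⟨fun x hx g => ?_⟩
    have h1 : ζ ((x * g * (g * x)⁻¹ : L) : A) = ζ 1 := by
      rw [show ζ 1 = ζ ((1 : L) : A) from rfl, hmy, hmy]
      refine Finset.sum_congr rfl fun i _ => ?_
      rcases Nat.eq_zero_or_pos (mu i) with h | h
      · rw [h]; simp
      · rw [hscalar i (hall i h.ne') x hx g]
    have h2 : x * g = g * x := mul_inv_eq_one.1 (Subtype.ext (hfaith _ h1))
    rw [← h2, mul_inv_cancel_right]
    exact hx
  have hfL2 : 2 ≤ fL := by
    by_contra hlt
    have hfL1 : Nat.card (D'.aut (H12.oneIrr H')) = 1 := by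
      have : 0 < fL := hfLdef ▸ Nat.card_pos
      omega
    refine hP'n ⟨fun x hx g => ?_⟩
    have h1 : ζ ((x * g * (g * x)⁻¹ : L) : A) = ζ 1 := by
      rw [show ζ 1 = ζ ((1 : L) : A) from rfl, hmy, hmy]
      refine Finset.sum_congr rfl fun i _ => ?_
      rcases Nat.eq_zero_or_pos (mu i) with h | h
      · rw [h]; simp
      have hle : H12.degree (i : L → ℂ) ≤ H12.degree ζ :=
        (Nat.le_mul_of_pos_left _ h).trans (hterm i)
      have hnorm := H15.PSubTwo.norm_eq_of_trivial_aut D' hM hfL1 i (by omega) hx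
      obtain ⟨k, σ, hσ, he'⟩ := i.2
      rw [← he'] at hnorm ⊢
      rw [H12.degree_character] at hnorm
      obtain ⟨ω, hω⟩ := H12.exists_scalar_of_norm_eq σ x hnorm
      have h3 : σ (x * g) = σ (g * x) := by
        rw [map_mul, map_mul, hω]
        ext v
        simp
      congr 1
      show LinearMap.trace ℂ _ (σ (x * g * (g * x)⁻¹)) = LinearMap.trace ℂ _ (σ 1)
      rw [map_mul, h3, ← map_mul, mul_inv_cancel]
    have h2 : x * g = g * x := mul_inv_eq_one.1 (Subtype.ext (hfaith _ h1))
    rw [← h2, mul_inv_cancel_right]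
    exact hx
  have hperf : ∀ l : L →* ℂˣ, l = 1 := lin_trivial D' hgen hfL2
  have hLne : L ≠ ⊥ := fun he => D.u_ne_one (by
    have := hPL D.u_mem
    rwa [he, Subgroup.mem_bot] at this)
  have hrest : ∀ i : IrrCharacter L, i ≠ ψ₀ → mu i = 0 := by
    intro i hi
    by_contra h0
    have hpair : mu ψ₀ * H12.degree (ψ₀ : L → ℂ) + mu i * H12.degree (i : L → ℂ) ≤ H12.degree ζ := by
      rw [hdegL, ← Finset.add_sum_erase _ _ (Finset.mem_univ ψ₀)]
      exact Nat.add_le_add_left (Finset.single_le_sum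
        (f := fun i : IrrCharacter L => mu i * H12.degree (i : L → ℂ)) (fun i _ => Nat.zero_le _)
        (Finset.mem_erase.2 ⟨hi, Finset.mem_univ i⟩)) _
    have h1 := Nat.le_mul_of_pos_left (H12.degree (ψ₀ : L → ℂ)) (Nat.pos_of_ne_zero hψ₀)
    have h2 := Nat.le_mul_of_pos_left (H12.degree (i : L → ℂ)) (Nat.pos_of_ne_zero h0)
    have hsmall : 2 * H12.degree (i : L → ℂ) + 1 < p := by omega
    -- `i` is linear, so trivial
    obtain ⟨k, σ, hσ, he'⟩ := i.2
    haveI := hσ
    have hcomm : ∀ x y : L, σ x * σ y = σ y * σ x := by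
      intro x y
      have hx : x ∈ Subgroup.closure {g : L | g ^ p = 1} := hgen ▸ Subgroup.mem_top x
      induction hx using Subgroup.closure_induction with
      | mem z hz =>
        obtain ⟨c, -, hc⟩ := (Nat.dvd_prime_pow hp').1
          ((pow_one p).symm ▸ orderOf_dvd_of_pow_eq_one hz : orderOf z ∣ p ^ 1)
        obtain ⟨w, hw, hconj⟩ := H20.FreeSylow.exists_isConj_mem (P := P') (y := z) ⟨c, hc⟩
        obtain ⟨s, hs⟩ := isConj_iff.1 hconj.symm
        have hnorm := D'.norm_eq_of_small hM hgen i (by omega) (x := w) hw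
        rw [← he', H12.degree_character] at hnorm
        obtain ⟨ω, hω⟩ := H12.exists_scalar_of_norm_eq σ w hnorm
        have hz' : σ z = ω • LinearMap.id := by
          rw [← hs, map_mul, map_mul, hω]
          rw [← Module.End.one_eq_id, mul_smul_comm, mul_one, smul_mul_assoc, ← map_mul,
            mul_inv_cancel, map_one]
        rw [hz']
        ext v
        simp
      | one => rw [map_one, one_mul, mul_one]
      | mul x z _ _ hx hz => rw [map_mul, mul_assoc, hz, ← mul_assoc, hx, mul_assoc]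
      | inv x _ hx =>
        have e1 : σ x⁻¹ * σ x = 1 := by rw [← map_mul, inv_mul_cancel, map_one]
        have e2 : σ x * σ x⁻¹ = 1 := by rw [← map_mul, mul_inv_cancel, map_one]
        calc σ x⁻¹ * σ y = σ x⁻¹ * (σ y * σ x) * σ x⁻¹ := by
              rw [mul_assoc (σ x⁻¹), mul_assoc (σ y), e2, mul_one]
          _ = σ x⁻¹ * (σ x * σ y) * σ x⁻¹ := by rw [hx]
          _ = σ y * σ x⁻¹ := by rw [← mul_assoc (σ x⁻¹), e1, one_mul]
    have hd1 : H12.degree (i : L → ℂ) = 1 := by
      refine Nat.dvd_one.1 ?_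
      rw [← Subgroup.index_top (G := L)]
      refine H15.degree_dvd_index_of_scalar i.2 ⊤ (fun z _ => ?_) (H12.irr_apply_one i)
      obtain ⟨c, hc⟩ := H12.exists_scalar_of_commute σ (σ z) fun y => hcomm z y
      have hk0 : (k : ℂ) ≠ 0 := by
        have hpos := H12.irr_degree_pos i
        rw [← he', H12.degree_character, Module.finrank_fintype_fun_eq_card, Fintype.card_fin] at hpos
        exact Nat.cast_ne_zero.2 hpos.ne'
      have hcn : ‖c‖ = 1 := by
        refine Complex.norm_eq_one_of_pow_eq_one (n := orderOf z) ?_ (orderOf_pos z).ne'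
        have h3 : σ (z ^ orderOf z) = (c ^ orderOf z) • (1 : Module.End ℂ (Fin k → ℂ)) := by
          rw [map_pow, hc, smul_pow, one_pow]
        rw [pow_orderOf_eq_one, map_one] at h3
        have h4 := congrArg (LinearMap.trace ℂ (Fin k → ℂ)) h3
        rw [map_smul, LinearMap.trace_one, smul_eq_mul, Module.finrank_fintype_fun_eq_card,
          Fintype.card_fin] at h4
        exact mul_right_cancel₀ hk0 (h4.symm.trans (one_mul _).symm)
      rw [← he', σ.char_one, show σ.character z = LinearMap.trace ℂ _ (σ z) from rfl, hc,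
        map_smul, LinearMap.trace_one, smul_eq_mul, Module.finrank_fintype_fun_eq_card,
        Fintype.card_fin, norm_mul, hcn, one_mul]
    obtain ⟨l, hl⟩ := H12.exists_monoidHom_of_apply_one_eq_one (H12.isCharacter_irr i)
      (by rw [H12.irr_apply_one, hd1, Nat.cast_one])
    have hione : i = H12.oneIrr L := Subtype.ext (funext fun y => by
      rw [H12.oneIrr_apply, ← congrFun hl y, hperf l]; simp)
    refine hLne (eq_bot_of_trivial_constituent L χA hfaith ?_)
    rw [hmu, H12.classInner_sum_smul_irr, ← hione]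
    exact Nat.cast_ne_zero.2 h0
  have hm1 : mu ψ₀ = 1 := by
    have h1 := hterm ψ₀
    by_contra hne
    have h2 := Nat.mul_le_mul_right (H12.degree (ψ₀ : L → ℂ)) (show 2 ≤ mu ψ₀ by omega)
    omega
  have hres : ∀ y : L, ζ y = (ψ₀ : L → ℂ) y := fun y => by
    rw [hmy, Finset.sum_eq_single ψ₀ (fun i _ hi => by rw [hrest i hi]; simp) (by simp), hm1,
      Nat.cast_one, one_mul]
  have hdψ : H12.degree (ψ₀ : L → ℂ) = H12.degree ζ := by
    have h := hres 1
    rw [OneMemClass.coe_one, H12.IsCharacter.apply_one_eq_degree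
      (H12.isCharacter_of_isIrrCharacter hζ), H12.irr_apply_one] at h
    exact_mod_cast h.symm
  have hfψ : ∀ l : L, (ψ₀ : L → ℂ) l = (ψ₀ : L → ℂ) 1 → l = 1 := fun l hl => by
    rw [← hres, ← hres, OneMemClass.coe_one] at hl
    exact Subtype.ext (hfaith _ hl)
  rcases reduce D' hM hgen hP'n ψ₀ (by omega) hfψ with hhalf | ⟨θ, ψ, h⟩
  · exact Or.inl (by omega)
  · refine Or.inr ⟨L, inferInstance, P', inferInstance, u', a', H', inferInstance, D', M,
      inferInstance, hM, inferInstance, ψ₀, θ, ψ, _, ?_, hdψ ▸ h⟩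
    have := h.add_eq
    rw [hdψ] at this
    exact this

/-- Degree sixteen is impossible at the prime nineteen. -/
theorem false_of_degree_sixteen (hp19 : p = 19) (P : Sylow p A) (hP : Nat.card P = p)
    (hnn : ¬ (P : Subgroup A).Normal) (ζ : A → ℂ) (hζ : IsIrrCharacter A ζ)
    (hfaith : ∀ g : A, ζ g = ζ 1 → g = 1) (hdeg : H12.degree ζ = 16) : False := by
  rcases exists_reduced_data P hP hnn ζ hζ hfaith (by omega) with hh |
    ⟨L, iL, P', iP, u, a, H, iH, D, M, iM, hM, iD, χ, θ, ψ, f, hadd, h⟩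
  · omega
  · rw [hdeg] at h
    obtain rfl : f = 3 := by omega
    exact false_of_neg h (by omega) hM

end H14.Deg16
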